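import Cfsg.Agent.H296.KB.Rank

/-!
# A criterion for `p ≤ k(B₀)` (S4822, KE8; helper440)

`x` of order `p` with fusion at most `{1, -1}` on its powers, a `p`-element `y` and an element `c`, both commuting with `x`, such
that `c` normalizes but does not centralize `⟨y⟩`.
-/

set_option autoImplicit false

open Cfsg Subgroup Cfsg.Agent.H508.KB Cfsg.Agent.H296.KB

namespace Cfsg.Agent.H440.TD4

universe u

variable {p : ℕ} [hpp : Fact p.Prime] {M : Ideal AlgInt}

theorem conj_pow_pow {S : Type u} [Group S] {y c : S} {n : ℕ} (h : c * y * c⁻¹ = y ^ n) (k : ℕ) :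
    c ^ k * y * (c ^ k)⁻¹ = y ^ (n ^ k) := by
  induction k with
  | zero => simp
  | succ k ih =>
    calc c ^ (k + 1) * y * (c ^ (k + 1))⁻¹ = c * (c ^ k * y * (c ^ k)⁻¹) * c⁻¹ := by
          rw [pow_succ']; group
      _ = (c * y * c⁻¹) ^ (n ^ k) := by rw [ih, conj_pow]
      _ = y ^ (n ^ (k + 1)) := by rw [h, ← pow_mul, pow_succ']

/-- `l(B₀(C(z))) ≥ 2` -/
theorem two_le_rank_cent {S : Type u} [Group S] [Finite S] (hM : IsPModular p M) {z y c : S}
    (hy : orderOf y = p) (hzy : Commute z y) (hzc : Commute z c) {n : ℕ}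
    (hcy : c * y * c⁻¹ = y ^ n) (hn : (n : ZMod p) ≠ 1) :
    2 ≤ blockRank p (principalBlock M ↥(centralizer ({z} : Set S))) := by
  have hp1 : p.Prime := hpp.out
  -- the `p'`-part of `c`
  obtain ⟨a, m, hm, hc⟩ := Nat.exists_eq_pow_mul_and_not_dvd (orderOf_pos c).ne' p hp1.ne_one
  set c' : S := c ^ p ^ a with hc'
  have hoc : orderOf c' = m := by
    rw [hc', orderOf_pow, hc, Nat.gcd_eq_right (Dvd.intro _ rfl),
      Nat.mul_div_cancel_left _ (pow_pos hp1.pos a)]
  have hcy' : c' * y * c'⁻¹ = y ^ (n ^ p ^ a) := conj_pow_pow hcy _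
  have hn' : ((n ^ p ^ a : ℕ) : ZMod p) ≠ 1 := by
    rw [Nat.cast_pow, ZMod.pow_card_pow]
    exact hn
  have hyC : y ∈ centralizer ({z} : Set S) := mem_centralizer_singleton_iff.2 hzy.symm.eq
  have hcC : c' ∈ centralizer ({z} : Set S) := mem_centralizer_singleton_iff.2 (hzc.pow_right _).symm.eq
  let Y : ↥(centralizer ({z} : Set S)) := ⟨y, hyC⟩
  let C : ↥(centralizer ({z} : Set S)) := ⟨c', hcC⟩
  have hconj : C * Y * C⁻¹ = Y ^ (n ^ p ^ a) := Subtype.ext hcy'
  refine two_le_rank hM (zpowers Y) ?_ C ?_ ?_ Y (mem_zpowers Y) ?_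
  · intro g
    obtain ⟨k, hk⟩ := g.2
    refine ⟨1, Subtype.ext ?_⟩
    have hY : Y ^ p = 1 := Subtype.ext (by
      have : y ^ p = 1 := by rw [← hy, pow_orderOf_eq_one]
      exact this)
    rw [pow_one, Subgroup.coe_pow, ← hk, Subgroup.coe_one]
    change (Y ^ k) ^ p = 1
    rw [← zpow_natCast, ← zpow_mul, mul_comm, zpow_mul, zpow_natCast, hY, one_zpow]
  · have : orderOf C = m := by
      rw [← hoc]
      exact (Subgroup.orderOf_coe C).symm
    rw [this]
    exact hm
  · rintro g ⟨k, rfl⟩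
    refine ⟨((n ^ p ^ a : ℕ) : ℤ) * k, ?_⟩
    change Y ^ (((n ^ p ^ a : ℕ) : ℤ) * k) = C * Y ^ k * C⁻¹
    rw [← conj_zpow, hconj, zpow_mul, zpow_natCast]
  · intro h
    have h1 : c' * y = y * c' := congrArg Subtype.val h
    have h2 : y ^ (n ^ p ^ a) = y ^ 1 := by
      rw [← hcy', h1]
      group
    rw [pow_eq_pow_iff_modEq, hy] at h2
    exact hn' (by
      have := (ZMod.natCast_eq_natCast_iff _ _ _).2 h2
      rwa [Nat.cast_one] at this)

/-- **The criterion** -/
theorem le_kB_of_line {S : Type u} [Group S] [Finite S] (hM : IsPModular p M) (hp2 : p ≠ 2) {x y c : S}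
    (hx : orderOf x = p) (hy : orderOf y = p) (hxy : Commute x y) (hxc : Commute x c) {n : ℕ}
    (hcy : c * y * c⁻¹ = y ^ n) (hn : (n : ZMod p) ≠ 1)
    (hfus : ∀ (h : S) (i j : ℕ), h * x ^ i * h⁻¹ = x ^ j → (i : ZMod p) = j ∨ (i : ZMod p) = -j) : p ≤ kB M S := by
  classical
  have hp1 : p.Prime := hpp.out
  have hodd : p % 2 = 1 := (hp1.eq_two_or_odd).resolve_left hp2
  have hlt : (p - 1) / 2 * 2 = p - 1 := by omega
  have hinj : ∀ i ∈ Finset.range ((p - 1) / 2), ∀ j ∈ Finset.range ((p - 1) / 2), ∀ h : S,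
      h * x ^ (i + 1) * h⁻¹ = x ^ (j + 1) → i = j := by
    intro i hi j hj h hh
    rw [Finset.mem_range] at hi hj
    rcases hfus h _ _ hh with h1 | h1
    · rw [ZMod.natCast_eq_natCast_iff] at h1
      have := Nat.ModEq.eq_of_lt_of_lt h1 (by omega) (by omega)
      omega
    · exfalso
      have h2 : ((i + 1 + (j + 1) : ℕ) : ZMod p) = 0 := by
        push_cast at h1 ⊢
        rw [h1]; ring
      rw [ZMod.natCast_eq_zero_iff] at h2
      have := Nat.le_of_dvd (by omega) h2
      omega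
  have hne : ∀ i ∈ Finset.range ((p - 1) / 2), x ^ (i + 1) ≠ 1 := by
    intro i hi h
    rw [Finset.mem_range] at hi
    have := orderOf_dvd_of_pow_eq_one h
    rw [hx] at this
    have := Nat.le_of_dvd (by omega) this
    omega
  set X : Finset S := insert 1 ((Finset.range ((p - 1) / 2)).image fun i => x ^ (i + 1)) with hX
  have h1 := sum_le_kB hM X (by
    intro z hz
    rw [hX, Finset.mem_insert, Finset.mem_image] at hz
    rcases hz with rfl | ⟨i, hi, rfl⟩
    · exact ⟨0, by rw [orderOf_one, pow_zero]⟩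
    · have : (x ^ (i + 1)) ^ p ^ 1 = 1 := by
        rw [pow_one, ← pow_mul, mul_comm, pow_mul]
        rw [show x ^ p = 1 by rw [← hx, pow_orderOf_eq_one], one_pow]
      obtain ⟨k, hk, hk'⟩ := (Nat.dvd_prime_pow hp1).1 (orderOf_dvd_of_pow_eq_one this)
      exact ⟨k, hk'⟩) (by
    intro z hz z' hz' hc
    rw [hX, Finset.mem_insert, Finset.mem_image] at hz hz'
    obtain ⟨h, hh⟩ := isConj_iff.1 hc
    rcases hz with rfl | ⟨i, hi, rfl⟩ <;> rcases hz' with rfl | ⟨j, hj, rfl⟩
    · rfl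
    · exfalso
      refine hne j hj ?_
      rw [← hh]; group
    · exfalso
      exact hne i hi (conj_eq_one_iff.1 hh)
    · rw [hinj i hi j hj h hh])
  refine le_trans ?_ h1
  rw [hX, Finset.sum_insert (by
    rw [Finset.mem_image]
    rintro ⟨i, hi, h⟩
    exact hne i hi h), Finset.sum_image (by
    intro i hi j hj hij
    exact hinj i hi j hj 1 (by rw [one_mul, inv_one, mul_one]; exact hij))]
  have h2 : ∀ i ∈ Finset.range ((p - 1) / 2),
      2 ≤ blockRank p (principalBlock M ↥(centralizer ({x ^ (i + 1)} : Set S))) := fun i _ =>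
    two_le_rank_cent hM hy (hxy.pow_left _) (hxc.pow_left _) hcy hn
  have h3 := Finset.card_nsmul_le_sum _ _ 2 h2
  rw [Finset.card_range, smul_eq_mul] at h3
  have h4 := one_le_rank (S := ↥(centralizer ({(1 : S)} : Set S))) hM
  omega

end Cfsg.Agent.H440.TD4
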