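import Cfsg.Agent.H440.TD4.Line
import Cfsg.Agent.H129.TwD4Cyc

/-!
# `³D₄(q)`: the torus data for `d = 1, 2, 3, 6` (S4822, KE8; helper440)
-/

set_option autoImplicit false
set_option linter.unusedSectionVars false

namespace Cfsg.Agent.H440.TD4

open CoxeterSystem Cfsg Cfsg.Lie Cfsg.Lie.ChevalleyDatum
open Cfsg.Agent.ChevalleyStructure Cfsg.Agent.ChevalleyStructure.Elts Cfsg.Agent.ChevalleyStructure.CoxeterGeom
  Cfsg.Agent.ChevalleyStructure.CoxeterGeomTypes Cfsg.Agent.ChevalleyStructure.NPerm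
open Cfsg.Agent.Tits.Roots Cfsg.Agent.Tits.Core Cfsg.Agent.Nodes Cfsg.Agent.Nodes.Reps Cfsg.Agent.Nodes.BNOf
  Cfsg.Agent.Nodes.RGDChev Cfsg.Agent.Nodes.Bruhat
open Cfsg.Agent.H210.EL Cfsg.Agent.H508.KB Cfsg.Agent.H129 Cfsg.Agent.H129.WData Cfsg.Agent.H129.TriD4
  Cfsg.Agent.H129.TorusMain

universe u

/-- `v` for `d = 1, 2` -/
def cV1 : List (Fin 4 × Mat 4) := [(0, ![![-1, 0, 0, 0], ![1, 1, 1, 1], ![0, 0, -1, 0], ![0, 0, 0, -1]]),
  (2, ![![1, 0, 0, 0], ![0, 1, 1, 1], ![0, 0, -1, 0], ![0, 0, 0, -1]]),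
  (3, ![![1, 0, 0, 0], ![0, 1, 0, 1], ![0, 0, 1, 0], ![0, 0, 0, -1]])]
/-- `w` for `d = 2` -/
def cN : List (Fin 4 × Mat 4) := [(3, ![![-1, 0, 0, 0], ![0, -1, 0, 0], ![0, 0, -1, 0], ![0, 0, 0, -1]]),
  (1, ![![-1, 0, 0, 0], ![0, -1, 0, -1], ![0, 0, -1, 0], ![0, 0, 0, 1]]),
  (2, ![![-1, -1, 0, 0], ![0, 0, 0, -1], ![0, -1, -1, 0], ![0, 1, 0, 1]]),
  (0, ![![-1, -1, -1, 0], ![0, 0, 0, -1], ![0, -1, 0, 0], ![0, 1, 1, 1]]),
  (1, ![![0, -1, -1, 0], ![0, 0, 0, -1], ![-1, -1, 0, 0], ![1, 1, 1, 1]]),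
  (3, ![![0, 0, -1, 0], ![0, -1, 0, -1], ![-1, 0, 0, 0], ![1, 2, 1, 1]]),
  (0, ![![0, 0, -1, 0], ![0, -1, 0, 0], ![-1, 0, 0, 0], ![1, 2, 1, 1]]),
  (1, ![![0, 0, -1, 0], ![-1, -1, 0, 0], ![1, 0, 0, 0], ![1, 2, 1, 1]]),
  (2, ![![0, -1, -1, 0], ![-1, 0, 0, 0], ![1, 1, 0, 0], ![1, 1, 1, 1]]),
  (0, ![![0, -1, 0, 0], ![-1, 0, 0, 0], ![1, 1, 1, 0], ![1, 1, 0, 1]]),
  (1, ![![-1, -1, 0, 0], ![1, 0, 0, 0], ![0, 1, 1, 0], ![0, 1, 0, 1]]),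
  (0, ![![-1, 0, 0, 0], ![1, 1, 0, 0], ![0, 0, 1, 0], ![0, 0, 0, 1]])]
/-- `v` for `d = 3, 6`, `w` for `d = 3` -/
def cV0 : List (Fin 4 × Mat 4) := [(1, ![![0, -1, -1, -1], ![1, 1, 1, 1], ![-1, -1, 0, -1], ![-1, -1, -1, 0]]),
  (2, ![![0, -1, -1, -1], ![1, 2, 1, 1], ![-1, -1, 0, -1], ![-1, -1, -1, 0]]),
  (0, ![![0, -1, 0, -1], ![1, 2, 1, 1], ![-1, -1, -1, -1], ![-1, -1, 0, 0]]),
  (1, ![![-1, -1, 0, -1], ![1, 2, 1, 1], ![0, -1, -1, -1], ![0, -1, 0, 0]]),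
  (3, ![![-1, -1, 0, -1], ![1, 1, 1, 1], ![0, -1, -1, -1], ![0, 1, 0, 0]]),
  (1, ![![-1, -1, 0, 0], ![1, 1, 1, 0], ![0, -1, -1, 0], ![0, 1, 0, 1]]),
  (2, ![![-1, 0, 0, 0], ![1, 1, 1, 0], ![0, 0, -1, 0], ![0, 0, 0, 1]]),
  (0, ![![-1, 0, 0, 0], ![1, 1, 0, 0], ![0, 0, 1, 0], ![0, 0, 0, 1]])]
/-- `w` for `d = 6` -/
def cNV0 : List (Fin 4 × Mat 4) := [(3, ![![0, 1, 1, 1], ![-1, -1, -1, -1], ![1, 1, 0, 1], ![1, 1, 1, 0]]),
  (2, ![![0, 1, 1, 0], ![-1, -1, -1, 0], ![1, 1, 0, 0], ![1, 1, 1, 1]]),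
  (0, ![![0, 1, 0, 0], ![-1, -1, 0, 0], ![1, 1, 1, 0], ![1, 1, 0, 1]]),
  (1, ![![1, 1, 0, 0], ![0, -1, 0, 0], ![0, 1, 1, 0], ![0, 1, 0, 1]])]

/-- `θ` for `d = 1` -/
def T1 : Mat 4 := ![![0, 0, 1, 0], ![0, 1, 0, 0], ![0, 0, 0, 1], ![1, 0, 0, 0]]

/-- `θ` for `d = 2` -/
def T2 : Mat 4 := ![![0, 0, -1, 0], ![0, -1, 0, 0], ![0, 0, 0, -1], ![-1, 0, 0, 0]]

/-- `θ` for `d = 3` -/
def T3 : Mat 4 := ![![-1, -1, 0, -1], ![1, 1, 1, 1], ![-1, -1, -1, 0], ![0, -1, -1, -1]]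

/-- `θ` for `d = 6` -/
def T6 : Mat 4 := ![![1, 1, 0, 1], ![-1, -1, -1, -1], ![1, 1, 1, 0], ![0, 1, 1, 1]]

theorem okV1 : ChainOK DataD4C.Am cV1 := by decide +kernel
theorem okN : ChainOK DataD4C.Am cN := by decide +kernel
theorem okV0 : ChainOK DataD4C.Am cV0 := by decide +kernel
theorem okNV0 : ChainOK DataD4C.Am cNV0 := by decide +kernel
theorem hd1 : ∀ j, hd ([] : List (Fin 4 × Mat 4)) ((![2, 1, 3, 0] : Fin 4 → Fin 4) j) = T1 j := by decide +kernel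
theorem hd2 : ∀ j, hd cN ((![2, 1, 3, 0] : Fin 4 → Fin 4) j) = T2 j := by decide +kernel
theorem hd3 : ∀ j, hd cV0 ((![2, 1, 3, 0] : Fin 4 → Fin 4) j) = T3 j := by decide +kernel
theorem hd6 : ∀ j, hd cNV0 ((![2, 1, 3, 0] : Fin 4 → Fin 4) j) = T6 j := by decide +kernel
theorem comm1 : CommOK T1 (hd cV1) := by decide +kernel
theorem comm2 : CommOK T2 (hd cV1) := by decide +kernel
theorem comm3 : CommOK T3 (hd cV0) := by decide +kernel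
theorem comm6 : CommOK T6 (hd cV0) := by decide +kernel

/-- the element of the Weyl group of a chain -/
noncomputable def el (L : List (Fin 4 × Mat 4)) : coxeterD4.Group := coxeterD4.toCoxeterSystem.wordProd (L.map Prod.fst)

section

variable {L C : List (Fin 4 × Mat 4)} {Th : Mat 4}

theorem mem_Lam {p Q : ℕ} (hL : ChainOK DataD4C.Am L) (hT : ∀ j, hd L ((![2, 1, 3, 0] : Fin 4 → Fin 4) j) = Th j)
    {a : Fin 4 → ZMod p} (ha : EigOK Th (Q : ZMod p) a) : a ∈ Lam RGDTwD4.hp p Q tri (el L) := by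
  have hlin := TwD4Cyc.lin_tri coxeterD4.toCoxeterSystem DataD4C.hA hL hT
  intro x
  have h1 := ext_sr ((lamHom a).comp (theta RGDTwD4.hp coxeterD4.toCoxeterSystem
      (coxeterD4.toCoxeterSystem.wordProd (L.map Prod.fst)) tri))
    ((AddMonoidHom.mulLeft (Q : ZMod p)).comp (lamHom a)) (fun i => by
      show lam a (theta RGDTwD4.hp coxeterD4.toCoxeterSystem
        (coxeterD4.toCoxeterSystem.wordProd (L.map Prod.fst)) tri (sr i)) = (Q : ZMod p) * lam a (sr i)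
      rw [hlin i, lam_sr]
      exact ha i) x
  exact h1

theorem comm_of (hL : ChainOK DataD4C.Am L) (hT : ∀ j, hd L ((![2, 1, 3, 0] : Fin 4 → Fin 4) j) = Th j)
    (hC : ChainOK DataD4C.Am C) (hc : CommOK Th (hd C)) (x : Fin 4 → ℤ) :
    rep coxeterD4.toCoxeterSystem RGDTwD4.hp.isCartan (el C)
      (rep coxeterD4.toCoxeterSystem RGDTwD4.hp.isCartan (el L) (tri x)) =
    rep coxeterD4.toCoxeterSystem RGDTwD4.hp.isCartan (el L)
      (tri (rep coxeterD4.toCoxeterSystem RGDTwD4.hp.isCartan (el C) x)) := by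
  have hlin := TwD4Cyc.lin_tri coxeterD4.toCoxeterSystem DataD4C.hA hL hT
  have hvr := chain_rep RGDTwD4.hp coxeterD4.toCoxeterSystem DataD4C.hA hC
  have h1 := ext_sr ((rep coxeterD4.toCoxeterSystem RGDTwD4.hp.isCartan (el C)).toAddMonoidHom.comp
      (theta RGDTwD4.hp coxeterD4.toCoxeterSystem (coxeterD4.toCoxeterSystem.wordProd (L.map Prod.fst)) tri))
    ((theta RGDTwD4.hp coxeterD4.toCoxeterSystem (coxeterD4.toCoxeterSystem.wordProd (L.map Prod.fst)) tri).comp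
      (rep coxeterD4.toCoxeterSystem RGDTwD4.hp.isCartan (el C)).toAddMonoidHom) (fun j => by
      show rep coxeterD4.toCoxeterSystem RGDTwD4.hp.isCartan (el C) (theta RGDTwD4.hp coxeterD4.toCoxeterSystem
          (coxeterD4.toCoxeterSystem.wordProd (L.map Prod.fst)) tri (sr j)) =
        theta RGDTwD4.hp coxeterD4.toCoxeterSystem (coxeterD4.toCoxeterSystem.wordProd (L.map Prod.fst)) tri
          (rep coxeterD4.toCoxeterSystem RGDTwD4.hp.isCartan (el C) (sr j))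
      funext m
      rw [hlin.apply, hlin j, show rep coxeterD4.toCoxeterSystem RGDTwD4.hp.isCartan (el C) (Th j) m =
          ∑ n, Th j n * hd C n m from H795.TorsData.rep_of_sr RGDTwD4.hp coxeterD4.toCoxeterSystem hvr _ _,
        show rep coxeterD4.toCoxeterSystem RGDTwD4.hp.isCartan (el C) (sr j) = hd C j from hvr j]
      exact hc j m) x
  exact h1

theorem rep_of {p : ℕ} (hC : ChainOK DataD4C.Am C) {s : ZMod p} {a : Fin 4 → ZMod p} (ha : EigOK (hd C) s a)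
    (x : Fin 4 → ℤ) : lam a (rep coxeterD4.toCoxeterSystem RGDTwD4.hp.isCartan (el C) x) = s * lam a x :=
  lam_rep RGDTwD4.hp (chain_rep RGDTwD4.hp coxeterD4.toCoxeterSystem DataD4C.hA hC) ha x

end

/-- the eight vectors of length 4 -/
def Om : Fin 8 → Fin 4 → ℤ := ![![2, 2, 1, 1], ![0, 2, 1, 1], ![0, 0, 1, 1], ![0, 0, -1, 1],
  ![-2, -2, -1, -1], ![0, -2, -1, -1], ![0, 0, -1, -1], ![0, 0, 1, -1]]

theorem Om_simple : ∀ (i : Fin 4) (k : Fin 8), ∃ k' : Fin 8, ∀ m, Om k' m =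
    Om k m - (∑ n, DataD4C.Am i n * Om k n) * (if i = m then 1 else 0) := by decide +kernel

theorem Om_rep (w : coxeterD4.Group) (k : Fin 8) :
    ∃ k' : Fin 8, rep coxeterD4.toCoxeterSystem RGDTwD4.hp.isCartan w (Om k) = Om k' := by
  induction w using coxeterD4.toCoxeterSystem.simple_induction_left with
  | one => exact ⟨k, by rw [map_one, Module.End.one_apply]⟩
  | mul_simple_left w i ih =>
    obtain ⟨k', hk'⟩ := ih
    obtain ⟨k'', hk''⟩ := Om_simple i k'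
    refine ⟨k'', ?_⟩
    rw [rep_mul_apply, hk', rep_simple_eq]
    funext m
    rw [hk'' m, Pi.sub_apply, Pi.smul_apply, smul_eq_mul]
    have e : pairing (cartanOf chevD4 4) i (Om k') = ∑ n, DataD4C.Am i n * Om k' n := by
      unfold pairing
      exact Finset.sum_congr rfl fun n _ => by rw [DataD4C.hA]
    rw [e]
    congr 2
    by_cases hm : i = m
    · subst hm; rw [if_pos rfl, sr_self]
    · rw [if_neg hm, sr_ne (Ne.symm hm)]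

end Cfsg.Agent.H440.TD4
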