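import Cfsg.Agent.H440.TD4.Model
import Cfsg.Agent.H440.TD4.Crit

/-!
# `p ≤ k(B₀)` from the torus model (S4822, KE8; helper440)
-/

set_option autoImplicit false
set_option linter.unusedSectionVars false

namespace Cfsg.Agent.H440.TD4

open CoxeterSystem Cfsg Cfsg.Lie Cfsg.Lie.ChevalleyDatum
open Cfsg.Agent.ChevalleyStructure Cfsg.Agent.ChevalleyStructure.Elts Cfsg.Agent.ChevalleyStructure.CoxeterGeom
  Cfsg.Agent.ChevalleyStructure.CoxeterGeomTypes Cfsg.Agent.ChevalleyStructure.NPerm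
open Cfsg.Agent.Tits.Roots Cfsg.Agent.Tits.Core Cfsg.Agent.Nodes Cfsg.Agent.Nodes.Reps Cfsg.Agent.Nodes.BNOf
  Cfsg.Agent.Nodes.RGDChev Cfsg.Agent.Nodes.Bruhat
open Cfsg.Agent.H210.EL Cfsg.Agent.H508.KB

universe u

variable {D : ChevalleyDatum} {l : ℕ} {M : CoxeterMatrix (Fin l)} {hp : IsType D l M}
  {p : ℕ} [hpp : Fact p.Prime] {Q : ℕ} {g : (Fin l → ℤ) ≃+ (Fin l → ℤ)} {w : M.Group}

theorem zero_mem_Lam : (0 : Fin l → ZMod p) ∈ Lam hp p Q g w := by
  intro x
  have h : ∀ y : Fin l → ℤ, lam (0 : Fin l → ZMod p) y = 0 := fun y => by unfold lam; simp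
  rw [h, h, mul_zero]

variable {S : Type u} [Group S] {X : (Fin l → ZMod p) → S}

theorem Model.zero (hX : Model hp p Q g w X) : X 0 = 1 := by
  have h1 := hX.add 0 zero_mem_Lam 0 zero_mem_Lam
  rw [add_zero] at h1
  exact (left_eq_mul.1 h1)

theorem Model.smul (hX : Model hp p Q g w X) {c : Fin l → ZMod p} (hc : c ∈ Lam hp p Q g w) (n : ℕ) :
    X ((n : ZMod p) • c) = X c ^ n := by
  induction n with
  | zero => rw [Nat.cast_zero, zero_smul, pow_zero, hX.zero]
  | succ n ih => rw [Nat.cast_succ, add_smul, one_smul, hX.add _ (Lam.smul hp _ hc) _ hc, ih, pow_succ]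

theorem Model.smul' (hX : Model hp p Q g w X) {c : Fin l → ZMod p} (hc : c ∈ Lam hp p Q g w) (t : ZMod p) :
    X (t • c) = X c ^ t.val := by
  rw [← hX.smul hc, ZMod.natCast_zmod_val]

theorem Model.order (hX : Model hp p Q g w X) {c : Fin l → ZMod p} (hc : c ∈ Lam hp p Q g w) (h0 : c ≠ 0) :
    orderOf (X c) = p :=
  orderOf_eq_prime (hX.pow c hc) fun h => h0 (hX.inj c hc h)

theorem Model.comm (hX : Model hp p Q g w X) {c c' : Fin l → ZMod p} (hc : c ∈ Lam hp p Q g w)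
    (hc' : c' ∈ Lam hp p Q g w) : Commute (X c) (X c') := by
  show X c * X c' = X c' * X c
  rw [← hX.add c hc c' hc', ← hX.add c' hc' c hc, add_comm]

/-- **`p ≤ k(B₀)`** from a line with fusion `{1, -1}` and a Weyl element. -/
theorem le_kB_of_model [Finite S] {I : Ideal AlgInt} (hM : IsPModular p I) (hp2 : p ≠ 2) (hX : Model hp p Q g w X)
    {v : M.Group} (hv : ∀ x, rep M.toCoxeterSystem hp.isCartan v (rep M.toCoxeterSystem hp.isCartan w (g x)) =
      rep M.toCoxeterSystem hp.isCartan w (g (rep M.toCoxeterSystem hp.isCartan v x)))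
    {a b : Fin l → ZMod p} (ha : a ∈ Lam hp p Q g w) (hb : b ∈ Lam hp p Q g w) (ha0 : a ≠ 0) (hb0 : b ≠ 0)
    (hvb : ∀ x, lam b (rep M.toCoxeterSystem hp.isCartan v x) = lam b x) {s t : ZMod p} (hts : t * s = 1) (ht : t ≠ 1)
    (hva : ∀ x, lam a (rep M.toCoxeterSystem hp.isCartan v x) = s * lam a x)
    (hfus : ∀ (w' : M.Group) (i j : ZMod p),
      (∀ x, j * lam b (rep M.toCoxeterSystem hp.isCartan w' x) = i * lam b x) → i = j ∨ i = -j) : p ≤ kB I S := by
  obtain ⟨m, hm⟩ := hX.act v hv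
  have h1 : m * X b * m⁻¹ = X b := hm b hb b hb hvb
  have h2 : m * X a * m⁻¹ = X a ^ t.val := by
    rw [← hX.smul' ha]
    refine hm a ha _ (Lam.smul hp t ha) fun x => ?_
    rw [lam_smul', hva, ← mul_assoc, hts, one_mul]
  refine le_kB_of_line hM hp2 (hX.order hb hb0) (hX.order ha ha0) (hX.comm hb ha) (c := m) ?_ h2 ?_ ?_
  · show X b * m = m * X b
    rw [mul_inv_eq_iff_eq_mul] at h1
    exact h1.symm
  · rwa [ZMod.natCast_zmod_val]
  · intro h i j hij
    rw [← hX.smul hb, ← hX.smul hb] at hij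
    obtain ⟨w', hw'⟩ := hX.fus _ (Lam.smul hp _ hb) _ (Lam.smul hp _ hb) h hij
    refine hfus w' _ _ fun x => ?_
    rw [← lam_smul', ← lam_smul']
    exact hw' x

end Cfsg.Agent.H440.TD4
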