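import Cfsg.Agent.H440.TD4.Data

/-!
# `³D₄(q)`: `p ≤ k(B₀)` for `p ∣ q⁶ - 1` (S4822, KE8; helper440)
-/

set_option autoImplicit false
set_option linter.unusedSectionVars false
set_option linter.unusedTactic false
set_option linter.unreachableTactic false

namespace Cfsg.Agent.H440.TD4

open CoxeterSystem Cfsg Cfsg.Lie Cfsg.Lie.ChevalleyDatum
open Cfsg.Agent.ChevalleyStructure Cfsg.Agent.ChevalleyStructure.Elts Cfsg.Agent.ChevalleyStructure.CoxeterGeom
  Cfsg.Agent.ChevalleyStructure.CoxeterGeomTypes Cfsg.Agent.ChevalleyStructure.NPerm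
open Cfsg.Agent.Tits.Roots Cfsg.Agent.Tits.Core Cfsg.Agent.Nodes Cfsg.Agent.Nodes.Reps Cfsg.Agent.Nodes.BNOf
  Cfsg.Agent.Nodes.RGDChev Cfsg.Agent.Nodes.Bruhat
open Cfsg.Agent.H210.EL Cfsg.Agent.H508.KB Cfsg.Agent.H129 Cfsg.Agent.H129.WData Cfsg.Agent.H129.TriD4
  Cfsg.Agent.H129.TorusMain

universe u v

section fusion

variable {p : ℕ} [hpp : Fact p.Prime]

theorem cast_ne_zero_of {n : ℕ} (h5 : 5 ≤ p) (h0 : 0 < n) (hn : n < 5) : ((n : ℕ) : ZMod p) ≠ 0 := by
  intro h
  rw [ZMod.natCast_eq_zero_iff] at h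
  have := Nat.le_of_dvd h0 h
  omega

/-- the functional for `d = 1, 2` -/
def b1 (p : ℕ) : Fin 4 → ZMod p := ![0, 1, 0, 0]

/-- the functional for `d = 3, 6` -/
def b3 {p : ℕ} (o : ZMod p) : Fin 4 → ZMod p := ![1, 0, o, o ^ 2]

/-- the functional for `d = 1, 2` -/
def a1 (p : ℕ) : Fin 4 → ZMod p := ![2, -3, 2, 2]

/-- the functional for `d = 3, 6` -/
def a3 {p : ℕ} (o : ZMod p) : Fin 4 → ZMod p := ![o - 1, 3, o - 1, o - 1]

theorem fus1 (h5 : 5 ≤ p) (w : coxeterD4.Group) (i j : ZMod p)
    (h : ∀ x, j * lam (b1 p) (rep coxeterD4.toCoxeterSystem RGDTwD4.hp.isCartan w x) = i * lam (b1 p) x) :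
    i = j ∨ i = -j := by
  have h2 : (2 : ZMod p) ≠ 0 := cast_ne_zero_of (n := 2) h5 (by norm_num) (by norm_num)
  obtain ⟨k, hk⟩ := Om_rep w 0
  have h1 := h (Om 0)
  rw [hk] at h1
  have hv : ∀ k, lam (b1 p) (Om k) = (![2, 2, 0, 0, -2, -2, 0, 0] : Fin 8 → ZMod p) k := by
    intro k
    fin_cases k <;> simp [lam, b1, Om, Fin.sum_univ_four]
  rw [hv, hv] at h1
  have h0 : i = 0 → j = 0 := by
    intro hi
    have h3 := h (rep coxeterD4.toCoxeterSystem RGDTwD4.hp.isCartan w⁻¹ (sr 1))
    rw [rep_apply_inv, lam_sr, hi, zero_mul] at h3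
    simpa [b1] using h3
  fin_cases k <;> simp at h1
  · exact Or.inl (h1.resolve_right h2).symm
  · exact Or.inl (h1.resolve_right h2).symm
  · have hi : i = 0 := h1.resolve_right h2
    rw [hi, h0 hi]; exact Or.inl rfl
  · have hi : i = 0 := h1.resolve_right h2
    rw [hi, h0 hi]; exact Or.inl rfl
  · right
    have : (i + j) * 2 = 0 := by linear_combination -h1
    linear_combination (mul_eq_zero.1 this).resolve_right h2
  · right
    have : (i + j) * 2 = 0 := by linear_combination -h1
    linear_combination (mul_eq_zero.1 this).resolve_right h2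
  · have hi : i = 0 := h1.resolve_right h2
    rw [hi, h0 hi]; exact Or.inl rfl
  · have hi : i = 0 := h1.resolve_right h2
    rw [hi, h0 hi]; exact Or.inl rfl

theorem fus3 {o : ZMod p} (ho : o ^ 2 + o + 1 = 0) (w : coxeterD4.Group) (i j : ZMod p)
    (h : ∀ x, j * lam (b3 o) (rep coxeterD4.toCoxeterSystem RGDTwD4.hp.isCartan w x) = i * lam (b3 o) x) :
    i = j ∨ i = -j := by
  obtain ⟨k, hk⟩ := Om_rep w 0
  obtain ⟨k', hk'⟩ := Om_rep w 5
  have hv : ∀ k, lam (b3 o) (Om k) = (![1, -1, -1, o ^ 2 - o, -1, 1, 1, o - o ^ 2] : Fin 8 → ZMod p) k := by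
    intro k
    fin_cases k <;> simp [lam, b3, Om, Fin.sum_univ_four] <;>
      first | linear_combination ho | linear_combination -ho | ring1
  have h1 := h (Om 0)
  have h2 := h (Om 5)
  rw [hk, hv, hv] at h1
  rw [hk', hv, hv] at h2
  -- the images of the two vectors are not both in the last pair
  have hnot : ¬ ((k = 3 ∨ k = 7) ∧ (k' = 3 ∨ k' = 7)) := by
    rintro ⟨hk3, hk3'⟩
    have hinj : ∀ x y : Fin 4 → ℤ, rep coxeterD4.toCoxeterSystem RGDTwD4.hp.isCartan w x =
        rep coxeterD4.toCoxeterSystem RGDTwD4.hp.isCartan w y → x = y := fun x y hxy => by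
      rw [← rep_inv_apply (cs := coxeterD4.toCoxeterSystem) (h := RGDTwD4.hp.isCartan) w x, hxy, rep_inv_apply]
    have hcase : Om k = Om k' ∨ Om k = - Om k' := by
      rcases hk3 with rfl | rfl <;> rcases hk3' with rfl | rfl <;> decide
    rcases hcase with hc | hc
    · have := hinj (Om 0) (Om 5) (by rw [hk, hk', hc])
      exact absurd this (by decide)
    · have := hinj (Om 0) (-(Om 5)) (by rw [map_neg, hk, hk', hc])
      exact absurd this (by decide)
  have key : ∀ k : Fin 8, ¬ (k = 3 ∨ k = 7) →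
      j * (![1, -1, -1, o ^ 2 - o, -1, 1, 1, o - o ^ 2] : Fin 8 → ZMod p) k = i * 1 → i = j ∨ i = -j := by
    intro k hk hki
    fin_cases k <;> simp at hki hk
    · exact Or.inl hki.symm
    · exact Or.inr hki.symm
    · exact Or.inr hki.symm
    · exact Or.inr hki.symm
    · exact Or.inl hki.symm
    · exact Or.inl hki.symm
  by_cases hk3 : k = 3 ∨ k = 7
  · exact key k' (fun hk3' => hnot ⟨hk3, hk3'⟩) h2
  · exact key k hk3 h1

end fusion

/-- **`p ≤ k(B₀)`** for `³D₄(q)`, `p ∣ q⁶ - 1`. -/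
theorem le_kB_tw {S : Type u} [Group S] [Finite S] {F : Type v} [Field F] [Fintype F] {p : ℕ} [hpp : Fact p.Prime]
    {I : Ideal AlgInt} (hM : IsPModular p I) (h5 : 5 ≤ p) {q : ℕ} (hq : IsPrimePow q) (hF : Fintype.card F = q ^ 3)
    (hpq : ¬ p ∣ q) (h6 : (q : ZMod p) ^ 6 = 1) (e : S ≃* ↥(Lie.twistedD4 F q)) : p ≤ kB I S := by
  have hp1 : p.Prime := hpp.out
  have hp2 : p ≠ 2 := by omega
  obtain ⟨r, e', hpF, hpc, hpk, -, hpe, hk⟩ := TorusUntw.exists_closure hF
  obtain ⟨r', f, hp', he, hqe'⟩ := id hq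
  have hpp' : r' = r := by
    have h1 : r' ∣ r ^ e' := by
      rw [← hpe, ← hqe']
      exact dvd_pow (dvd_pow_self r' he.ne') (by norm_num)
    exact (Nat.prime_dvd_prime_iff_eq hp'.nat_prime hpF.out).1 (hp'.nat_prime.dvd_of_dvd_pow h1)
  subst hpp'
  have hqe : q = r' ^ f := hqe'.symm
  have hpr : p ≠ r' := by
    rintro rfl
    exact hpq (by rw [hqe]; exact dvd_pow_self _ he.ne')
  have hmodel := fun w : coxeterD4.Group => exists_model (k := AlgebraicClosure F) RGDTwD4.hp hk hpr
    TorusChar.invC_D4 (by norm_num) he isFrob_tau (fr_tau coxeterD4.toCoxeterSystem)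
    (f := (embT (algebraMap F (AlgebraicClosure F)) hq hF).comp e.toMonoidHom)
    ((embT_injective _ hq hF).comp e.injective) (fun y hy => by
      obtain ⟨x, hx⟩ := tau_range _ hqe hq hF hy
      exact ⟨e.symm x, by
        show embT (algebraMap F (AlgebraicClosure F)) hq hF (e (e.symm x)) = y
        rw [e.apply_symm_apply]
        exact hx⟩) w
  rw [← hqe] at hmodel
  have h2 : (2 : ZMod p) ≠ 0 := cast_ne_zero_of (n := 2) h5 (by norm_num) (by norm_num)
  have h3 : (3 : ZMod p) ≠ 0 := cast_ne_zero_of (n := 3) h5 (by norm_num) (by norm_num)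
  have hb1 : b1 p ≠ 0 := fun h => by
    have := congrFun h 1
    simp [b1] at this
  have ha1 : a1 p ≠ 0 := fun h => by
    have := congrFun h 0
    simp [a1] at this
    exact h2 this
  have hb3 : ∀ o : ZMod p, b3 o ≠ 0 := fun o h => by
    have := congrFun h 0
    simp [b3] at this
  have ha3 : ∀ o : ZMod p, a3 o ≠ 0 := fun o h => by
    have := congrFun h 1
    simp [a3] at this
    exact h3 this
  have hneg : (-1 : ZMod p) ≠ 1 := fun h => h2 (by linear_combination -h)
  have hv1b : EigOK (hd cV1) (1 : ZMod p) (b1 p) := by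
    intro j
    fin_cases j <;> simp [cV1, hd, b1, Fin.sum_univ_four]
  have hv1a : EigOK (hd cV1) (-1 : ZMod p) (a1 p) := by
    intro j
    fin_cases j <;> simp [cV1, hd, a1, Fin.sum_univ_four]
    norm_num
  have hv3b : ∀ o : ZMod p, o ^ 2 + o + 1 = 0 → EigOK (hd cV0) (1 : ZMod p) (b3 o) := by
    intro o ho j
    fin_cases j <;> simp [cV0, hd, b3, Fin.sum_univ_four] <;>
      first | linear_combination ho | linear_combination -ho | ring1
  have hv3a : ∀ o : ZMod p, o ^ 2 + o + 1 = 0 → EigOK (hd cV0) o (a3 o) := by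
    intro o ho j
    fin_cases j <;> simp [cV0, hd, a3, Fin.sum_univ_four] <;>
      first | linear_combination ho | linear_combination -ho | ring1
  have hfac : ((q : ZMod p) - 1) * (((q : ZMod p) + 1) * (((q : ZMod p) ^ 2 + q + 1) *
      ((q : ZMod p) ^ 2 - q + 1))) = 0 := by linear_combination h6
  -- the case `d = 1, 2`
  have case1 : ∀ {L : List (Fin 4 × Mat 4)} {Th : Mat 4}, ChainOK DataD4C.Am L →
      (∀ j, hd L ((![2, 1, 3, 0] : Fin 4 → Fin 4) j) = Th j) → CommOK Th (hd cV1) →
      EigOK Th (q : ZMod p) (a1 p) → EigOK Th (q : ZMod p) (b1 p) → p ≤ kB I S := by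
    intro L Th hL hT hc ha hb
    obtain ⟨X, hX⟩ := hmodel (el L)
    refine le_kB_of_model hM hp2 hX (v := el cV1) (comm_of hL hT okV1 hc) (mem_Lam hL hT ha) (mem_Lam hL hT hb)
      ha1 hb1 (fun x => ?_) (s := -1) (t := -1) (by norm_num) hneg (rep_of okV1 hv1a) (fus1 h5)
    rw [rep_of okV1 hv1b, one_mul]
  -- the case `d = 3, 6`
  have case3 : ∀ {L : List (Fin 4 × Mat 4)} {Th : Mat 4} {o : ZMod p}, o ^ 2 + o + 1 = 0 → ChainOK DataD4C.Am L →
      (∀ j, hd L ((![2, 1, 3, 0] : Fin 4 → Fin 4) j) = Th j) → CommOK Th (hd cV0) →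
      EigOK Th (q : ZMod p) (a3 o) → EigOK Th (q : ZMod p) (b3 o) → p ≤ kB I S := by
    intro L Th o ho hL hT hc ha hb
    obtain ⟨X, hX⟩ := hmodel (el L)
    refine le_kB_of_model hM hp2 hX (v := el cV0) (comm_of hL hT okV0 hc) (mem_Lam hL hT ha) (mem_Lam hL hT hb)
      (ha3 o) (hb3 o) (fun x => ?_) (s := o) (t := o ^ 2) (by linear_combination (o - 1) * ho)
      (fun h => h3 ?_) (rep_of okV0 (hv3a o ho)) (fus3 ho)
    · rw [rep_of okV0 (hv3b o ho), one_mul]
    · have h4 : o = -2 := by linear_combination ho - h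
      rw [h4] at ho
      linear_combination ho
  rcases mul_eq_zero.1 hfac with h | h
  · have hq1 : (q : ZMod p) = 1 := by linear_combination h
    rw [hq1] at case1
    refine case1 (L := []) trivial hd1 comm1 ?_ ?_
    · intro j
      fin_cases j <;> simp [T1, a1, Fin.sum_univ_four]
    · intro j
      fin_cases j <;> simp [T1, b1, Fin.sum_univ_four]
  rcases mul_eq_zero.1 h with h | h
  · have hq1 : (q : ZMod p) = -1 := by linear_combination h
    rw [hq1] at case1
    refine case1 (L := cN) okN hd2 comm2 ?_ ?_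
    · intro j
      fin_cases j <;> simp [T2, a1, Fin.sum_univ_four]
    · intro j
      fin_cases j <;> simp [T2, b1, Fin.sum_univ_four]
  rcases mul_eq_zero.1 h with h | h
  · refine case3 (L := cV0) (o := (q : ZMod p)) h okV0 hd3 comm3 ?_ ?_
    · intro j
      fin_cases j <;> simp [T3, a3, Fin.sum_univ_four] <;>
        first | linear_combination h | linear_combination -h | linear_combination (q : ZMod p) * h |
          linear_combination -(q : ZMod p) * h | ring1
    · intro j
      fin_cases j <;> simp [T3, b3, Fin.sum_univ_four] <;>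
        first | linear_combination h | linear_combination -h | linear_combination (q : ZMod p) * h |
          linear_combination -(q : ZMod p) * h | ring1
  · refine case3 (L := cNV0) (o := -(q : ZMod p)) (by linear_combination h) okNV0 hd6 comm6 ?_ ?_
    · intro j
      fin_cases j <;> simp [T6, a3, Fin.sum_univ_four] <;>
        first | linear_combination h | linear_combination -h | linear_combination (q : ZMod p) * h |
          linear_combination -(q : ZMod p) * h | ring1
    · intro j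
      fin_cases j <;> simp [T6, b3, Fin.sum_univ_four] <;>
        first | linear_combination h | linear_combination -h | linear_combination (q : ZMod p) * h |
          linear_combination -(q : ZMod p) * h | ring1

end Cfsg.Agent.H440.TD4
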