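import Cfsg.Agent.H210.EL.Gen

/-!
# The torus model (S4822, KE; helper440)

`σ` a frame automorphism of Frobenius type of `D.group k`, `k` algebraically closed and locally finite, with lattice automorphism
`g`; `f : G →* D.group k` injective, onto the fixed points of `σ`. For `w` in the Weyl group let

`Lam w = {c | lam c (rep w (g x)) = r ^ e * lam c x for all x}` (functionals on the root lattice modulo `p`).

`exists_model` : there is `X : (Fin l → ZMod p) → G` with
* `X (c + c') = X c * X c'`, `X c = 1 → c = 0`, `X c ^ p = 1` for `c`, `c'` in `Lam w`;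
* for `v` commuting with `rep w ∘ g` there is `m : G` with `m X(c) m⁻¹ = X(c')` if `c' ∘ v = c`;
* fusion is controlled by the Weyl group: `h X(c) h⁻¹ = X(c')` implies `c' ∘ w' = c` for some `w'`.
-/

set_option autoImplicit false
set_option linter.unusedSectionVars false

namespace Cfsg.Agent.H440.TD4

open CoxeterSystem Cfsg Cfsg.Lie Cfsg.Lie.ChevalleyDatum
open Cfsg.Agent.ChevalleyStructure Cfsg.Agent.ChevalleyStructure.Elts Cfsg.Agent.ChevalleyStructure.CoxeterGeom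
  Cfsg.Agent.ChevalleyStructure.CoxeterGeomTypes Cfsg.Agent.ChevalleyStructure.NPerm
open Cfsg.Agent.Tits.Roots Cfsg.Agent.Tits.Core Cfsg.Agent.Nodes Cfsg.Agent.Nodes.Reps Cfsg.Agent.Nodes.BNOf
  Cfsg.Agent.Nodes.RGDChev Cfsg.Agent.Nodes.Bruhat
open Cfsg.Agent.KFacts.RgdField Cfsg.Agent.KFacts.RgdChevCoord Cfsg.Agent.BpExc.TorCent Cfsg.Agent.BpExc.TorChev
open Cfsg.Agent.GpExc.Field Cfsg.Agent.BpExc.Tow Cfsg.Agent.BpExc.TowChev Cfsg.Agent.BpExc.Fr
  Cfsg.Agent.BpExc.LangFr Cfsg.Agent.H795.SetCent Cfsg.Agent.H795.Toral Cfsg.Agent.H795.Core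
  Cfsg.Agent.H795.RootConn Cfsg.Agent.H795.SetTor Cfsg.Agent.H129.TorusChar Cfsg.Agent.H129.TorusUntw
  Cfsg.Agent.H129.WData Cfsg.Agent.H795.Reduce Cfsg.Agent.H795.LangT Cfsg.Agent.H123.ExcZ
  Cfsg.Agent.BpExc Cfsg.Agent.H210.EL

universe u v

variable {D : ChevalleyDatum} {l : ℕ} {M : CoxeterMatrix (Fin l)} (hp : IsType D l M)

/-- the functionals modulo `p` in the eigenspace of `θ = rep w ∘ g` -/
def Lam (hp : IsType D l M) (p Q : ℕ) (g : (Fin l → ℤ) ≃+ (Fin l → ℤ)) (w : M.Group) : Set (Fin l → ZMod p) :=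
  {c | ∀ x, lam c (rep M.toCoxeterSystem hp.isCartan w (g x)) = (Q : ZMod p) * lam c x}

theorem lam_add' {p : ℕ} (a b : Fin l → ZMod p) (x : Fin l → ℤ) : lam (a + b) x = lam a x + lam b x := by
  unfold lam
  rw [← Finset.sum_add_distrib]
  refine Finset.sum_congr rfl fun n _ => ?_
  rw [Pi.add_apply, mul_add]

theorem lam_smul' {p : ℕ} (s : ZMod p) (a : Fin l → ZMod p) (x : Fin l → ℤ) : lam (s • a) x = s * lam a x := by
  unfold lam
  rw [Finset.mul_sum]
  refine Finset.sum_congr rfl fun n _ => ?_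
  rw [Pi.smul_apply, smul_eq_mul]
  ring

theorem Lam.add {p Q : ℕ} {g : (Fin l → ℤ) ≃+ (Fin l → ℤ)} {w : M.Group} {a b : Fin l → ZMod p}
    (ha : a ∈ Lam hp p Q g w) (hb : b ∈ Lam hp p Q g w) : a + b ∈ Lam hp p Q g w := by
  intro x
  rw [lam_add', lam_add', ha x, hb x, mul_add]

theorem Lam.smul {p Q : ℕ} {g : (Fin l → ℤ) ≃+ (Fin l → ℤ)} {w : M.Group} {a : Fin l → ZMod p} (s : ZMod p)
    (ha : a ∈ Lam hp p Q g w) : s • a ∈ Lam hp p Q g w := by
  intro x
  rw [lam_smul', lam_smul', ha x]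
  ring

/-- The model of the elements of order `p` of a torus. -/
structure Model (hp : IsType D l M) (p Q : ℕ) (g : (Fin l → ℤ) ≃+ (Fin l → ℤ)) (w : M.Group) {G : Type v} [Group G]
    (X : (Fin l → ZMod p) → G) : Prop where
  add : ∀ c ∈ Lam hp p Q g w, ∀ c' ∈ Lam hp p Q g w, X (c + c') = X c * X c'
  inj : ∀ c ∈ Lam hp p Q g w, X c = 1 → c = 0
  pow : ∀ c ∈ Lam hp p Q g w, X c ^ p = 1
  act : ∀ v : M.Group, (∀ x, rep M.toCoxeterSystem hp.isCartan v (rep M.toCoxeterSystem hp.isCartan w (g x)) =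
      rep M.toCoxeterSystem hp.isCartan w (g (rep M.toCoxeterSystem hp.isCartan v x))) →
    ∃ m : G, ∀ c ∈ Lam hp p Q g w, ∀ c' ∈ Lam hp p Q g w,
      (∀ x, lam c' (rep M.toCoxeterSystem hp.isCartan v x) = lam c x) → m * X c * m⁻¹ = X c'
  fus : ∀ c ∈ Lam hp p Q g w, ∀ c' ∈ Lam hp p Q g w, ∀ h : G, h * X c * h⁻¹ = X c' →
    ∃ w' : M.Group, ∀ x, lam c' (rep M.toCoxeterSystem hp.isCartan w' x) = lam c x

section

variable {k : Type u} [Field k] [IsAlgClosed k] {r e : ℕ} [hr : Fact r.Prime] [CharP k r] (hk : LocFin k)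
  {σ : MulAut ↥(D.group k)} {g : (Fin l → ℤ) ≃+ (Fin l → ℤ)}

include hp hr hk in
/-- elements of the torus which are conjugate in `D.group k` are conjugate under the Weyl group -/
theorem exists_weyl {s t c : ↥(D.group k)} (hs : s ∈ TT D k) (ht : t ∈ TT D k) (hc : c * s = t * c) :
    ∃ w : M.Group, ∀ x, cX hp t (rep M.toCoxeterSystem hp.isCartan w x) = cX hp s x := by
  have hWf := finite_W hp (M.toCoxeterSystem)
  have H := tow hp M.toCoxeterSystem hk r
  have C : Coords M.toCoxeterSystem hp.isCartan (TL (Tj hp (k := k))) (nc hp k) (XL (Xj hp)) (xc hp) (ch hp) := by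
    rw [TL_eq hp hk, XL_eq hp hk]
    exact coordsL hp M.toCoxeterSystem hk r
  have hGt := GG_eq_top hp M.toCoxeterSystem hk
  have hTL := TL_eq (k := k) hp hk
  obtain ⟨m, hm, w, n, hn, hns, -⟩ := exists_form' H C (ι := Unit) (s := fun _ => s) (t := fun _ => t)
    (fun _ => by rw [hTL]; exact hs) (fun _ => by rw [hTL]; exact ht) (c := c)
    (by rw [hGt]; exact Subgroup.mem_top _) (fun _ => hc)
  refine ⟨w, fun x => ?_⟩
  rw [← cX_rp' hp hk hn hs x, hns (), mul_inv_cancel_right]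

include hk in
/-- **The torus model.** -/
theorem exists_model {p : ℕ} [hpp : Fact p.Prime] (hpr : p ≠ r) {d : ℕ} {B : Fin l → Fin l → ℤ} (hB : InvC D l d B)
    (hd : d ≠ 0) (he : 0 < e) (hσ : IsFrob r e σ)
    (F0 : Fr M.toCoxeterSystem hp.isCartan (TT D k) (XX D l k) σ g) {G : Type v} [Group G] {f : G →* ↥(D.group k)}
    (hinj : Function.Injective f) (hrange : ∀ y, σ y = y → ∃ x, f x = y) (w : M.Group) :
    ∃ X : (Fin l → ZMod p) → G, Model hp p (r ^ e) g w X := by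
  classical
  have hp1 : p.Prime := hpp.out
  -- the root of unity
  have hpk : (p : k) ≠ 0 := by
    intro h
    have h1 := (CharP.cast_eq_zero_iff k r p).1 h
    exact hpr.symm ((Nat.prime_dvd_prime_iff_eq hr.out hp1).1 h1)
  have : NeZero (p : k) := ⟨hpk⟩
  obtain ⟨ζ, hζ⟩ := HasEnoughRootsOfUnity.exists_primitiveRoot k p
  have hζp : ζ ^ p = 1 := hζ.pow_eq_one
  have hζinj : ∀ a b : ZMod p, ζ ^ a.val = ζ ^ b.val → a = b := by
    intro a b h
    exact ZMod.val_injective p (hζ.pow_inj (ZMod.val_lt a) (ZMod.val_lt b) h)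
  -- the torus elements
  have hex : ∀ c : Fin l → ZMod p, ∃ t ∈ TT D k, ∀ x, cX hp t x = chr ζ c x := fun c =>
    exists_cX hp (k := k) hB hd (isMC_chr hζp c) (fun i => IsAlgClosed.exists_pow_nat_eq _ (Nat.pos_of_ne_zero hd))
  choose t ht hX using hex
  have ht_add : ∀ c c', t (c + c') = t c * t c' := by
    intro c c'
    refine cX_inj hp (ht _) (mul_mem (ht _) (ht _)) fun i => ?_
    rw [cX_mul hp (ht _) (ht _), hX, hX, hX]
    unfold chr
    rw [lam_add', pow_val_add hζp]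
  have ht_eq : ∀ c c' : Fin l → ZMod p, (∀ x, lam c x = lam c' x) → c = c' := by
    intro c c' h
    funext i
    have := h (sr i)
    rwa [lam_sr, lam_sr] at this
  -- the frame automorphism
  have H := tow hp M.toCoxeterSystem hk r
  obtain ⟨nw, hnw⟩ := exists_rp M.toCoxeterSystem H.nsys w
  obtain ⟨u, hu⟩ := lang_all hp M.toCoxeterSystem he hσ F0 1 nw
  have hu' : nw = u⁻¹ * σ u := by
    rw [map_one, one_mul] at hu
    exact hu
  have Fr1 : Fr M.toCoxeterSystem hp.isCartan (TT D k) (XX D l k) (ct σ u)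
      (g.trans (repAut M.toCoxeterSystem hp.isCartan w)) := by
    have h1 := Fr.conj H (by rw [hu'] at hnw; exact hnw : Rp M.toCoxeterSystem H.nsys w (u⁻¹ * σ u))
    rw [TL_eq hp hk, XL_eq hp hk] at h1
    exact h1.mul F0
  have hσ1 : IsFrob r e (ct σ u) := hσ.conj_mul _
  have hg1 : ∀ x, (g.trans (repAut M.toCoxeterSystem hp.isCartan w)) x =
      rep M.toCoxeterSystem hp.isCartan w (g x) := fun x => rfl
  -- fixed
  have hfixt : ∀ c ∈ Lam hp p (r ^ e) g w, ct σ u (t c) = t c := by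
    intro c hcw
    refine cX_inj hp ((Fr1.tor (t c)).2 (ht c)) (ht c) fun i => ?_
    obtain ⟨y, hy⟩ := (g.trans (repAut M.toCoxeterSystem hp.isCartan w)).surjective (sr i)
    rw [← hy, cX_sigma hp M.toCoxeterSystem hσ1 Fr1 (ht c), hX, hX, hg1]
    unfold chr
    rw [hcw y, pow_val_cast hζp]
  -- back in the finite group
  have hback : ∀ {t : ↥(D.group k)}, ct σ u t = t → ∃ x : G, f x = u * t * u⁻¹ := by
    intro t ht
    exact hrange _ (ct_fix.1 ht)
  have hexX : ∀ c : Fin l → ZMod p, ∃ x : G, c ∈ Lam hp p (r ^ e) g w → f x = u * t c * u⁻¹ := by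
    intro c
    by_cases hc : c ∈ Lam hp p (r ^ e) g w
    · obtain ⟨x, hx⟩ := hback (hfixt c hc)
      exact ⟨x, fun _ => hx⟩
    · exact ⟨1, fun h => absurd h hc⟩
  choose X hXf using hexX
  refine ⟨X, ?_, ?_, ?_, ?_, ?_⟩
  · intro c hc c' hc'
    apply hinj
    rw [map_mul, hXf _ (Lam.add hp hc hc'), hXf _ hc, hXf _ hc', ht_add]
    group
  · intro c hc h1
    have h2 := hXf _ hc
    rw [h1, map_one] at h2
    have h3 : t c = 1 := by
      have h4 : u * t c * u⁻¹ = 1 := h2.symm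
      rwa [conj_eq_one_iff] at h4
    refine ht_eq _ _ fun x => hζinj _ _ ?_
    have h4 := hX c x
    rw [h3, cX_one] at h4
    rw [show lam (0 : Fin l → ZMod p) x = 0 by unfold lam; simp, ZMod.val_zero, pow_zero]
    exact h4.symm
  · intro c hc
    apply hinj
    rw [map_pow, map_one, hXf _ hc, conj_pow, conj_eq_one_iff]
    refine cX_inj hp (pow_mem (ht c) p) (one_mem _) fun i => ?_
    rw [cX_pow hp (ht c), cX_one, hX]
    unfold chr
    rw [← pow_mul, mul_comm, pow_mul, hζp, one_pow]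
  · intro v hv
    obtain ⟨m, hm, hmf⟩ := exists_fixed_lift hp hk hB hd he hσ1 Fr1 hv
    obtain ⟨n, hn⟩ := hback hmf
    refine ⟨n, fun c hc c' hc' hcc => ?_⟩
    apply hinj
    rw [map_mul, map_mul, map_inv, hXf _ hc, hXf _ hc', hn]
    have h1 : m * t c * m⁻¹ = t c' := by
      refine cX_inj hp (rp_conj_mem hp hk hm (ht c)) (ht c') fun i => ?_
      obtain ⟨y', hy'⟩ := (repAut M.toCoxeterSystem hp.isCartan v).surjective (sr i)
      have hy : rep M.toCoxeterSystem hp.isCartan v y' = sr i := hy'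
      rw [← hy, cX_rp' hp hk hm (ht c), hX, hX]
      unfold chr
      rw [hcc]
    calc u * m * u⁻¹ * (u * t c * u⁻¹) * (u * m * u⁻¹)⁻¹ = u * (m * t c * m⁻¹) * u⁻¹ := by group
      _ = u * t c' * u⁻¹ := by rw [h1]
  · intro c hc c' hc' h hh
    have h1 := congrArg f hh
    rw [map_mul, map_mul, map_inv, hXf _ hc, hXf _ hc'] at h1
    obtain ⟨w', hw'⟩ := exists_weyl (r := r) hp hk (ht c) (ht c') (c := u⁻¹ * f h * u) (by
      calc u⁻¹ * f h * u * t c = u⁻¹ * (f h * (u * t c * u⁻¹) * (f h)⁻¹) * f h * u := by group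
        _ = u⁻¹ * (u * t c' * u⁻¹) * f h * u := by rw [h1]
        _ = t c' * (u⁻¹ * f h * u) := by group)
    refine ⟨w', fun x => hζinj _ _ ?_⟩
    have h2 := hw' x
    rw [hX, hX] at h2
    exact h2

end

end Cfsg.Agent.H440.TD4
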