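import Cfsg.Agent.H440.TD4.Main
import Cfsg.Agent.LieExceptional.CyclicSylow
import Cfsg.Agent.S1067
import Cfsg.Agent.H191.KB.Crit
import Cfsg.Agent.H299.AO.ThreeD4

/-!
# S4822, KE8: `³D₄(q)` (helper440)

* `kb_3D4` : `p ≤ k(B₀(S))` if the Sylow `p`-subgroups are not cyclic;
* `row_3D4` : the row (with the pieces `Deps` of helper191 as a hypothesis).
-/

set_option autoImplicit false

open Cfsg Subgroup Cfsg.Agent.H508.KB

namespace Cfsg.Agent.H440.TD4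

universe u

/-- arithmetic: if `p` does not divide `q (q⁶ - 1)` the Sylow `p`-subgroups are cyclic -/
theorem q_pow_six {S : Type u} [Group S] [Finite S] {F : Type} [Field F] [Fintype F] {p : ℕ} [hpp : Fact p.Prime]
    {q : ℕ} (hq : IsPrimePow q) (hF : Fintype.card F = q ^ 3) (hpq : ¬ p ∣ q) (e : S ≃* ↥(Lie.twistedD4 F q))
    (hP : ∀ P : Sylow p S, ¬ IsCyclic (P : Subgroup S)) : (q : ZMod p) ^ 6 = 1 := by
  have hp1 : p.Prime := hpp.out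
  have hq0 : q ≠ 0 := hq.ne_zero
  have hq1 : 1 ≤ q := Nat.one_le_iff_ne_zero.mpr hq0
  by_contra hne
  have hn6 : ¬ p ∣ q ^ 6 - 1 := by
    intro h1
    apply hne
    have h2 : ((q ^ 6 - 1 : ℕ) : ZMod p) = 0 := (ZMod.natCast_eq_zero_iff _ _).2 h1
    rw [Nat.cast_sub (Nat.one_le_pow _ _ hq1)] at h2
    push_cast at h2
    linear_combination h2
  have hcard := Cfsg.Agent.S1067.result hq hF
  obtain ⟨H, hHc, hHcard, -⟩ := Cfsg.Agent.H129.TwD4Cyc.coxeter_torus hq hF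
  have hle : q ^ 2 ≤ q ^ 4 := Nat.pow_le_pow_right (Nat.pos_of_ne_zero hq0) (by norm_num)
  have hfac : q ^ 8 + q ^ 4 + 1 = (q ^ 4 + q ^ 2 + 1) * (q ^ 4 - q ^ 2 + 1) := by
    zify [hle]
    ring
  have h6 : q ^ 6 - 1 = (q ^ 2 - 1) * (q ^ 4 + q ^ 2 + 1) := by
    have h1 : 1 ≤ q ^ 6 := Nat.one_le_pow _ _ hq1
    have h2 : 1 ≤ q ^ 2 := Nat.one_le_pow _ _ hq1
    zify [h1, h2]
    ring
  have hn2 : ¬ p ∣ q ^ 2 - 1 := fun h1 => hn6 (by rw [h6]; exact Dvd.dvd.mul_right h1 _)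
  have hn4 : ¬ p ∣ q ^ 4 + q ^ 2 + 1 := fun h1 => hn6 (by rw [h6]; exact Dvd.dvd.mul_left h1 _)
  have hA : ¬ p ∣ q ^ 12 * (q ^ 2 - 1) * (q ^ 6 - 1) * (q ^ 4 + q ^ 2 + 1) := by
    rw [hp1.dvd_mul, hp1.dvd_mul, hp1.dvd_mul]
    rintro (((h1 | h1) | h1) | h1)
    · exact hpq (hp1.dvd_of_dvd_pow h1)
    · exact hn2 h1
    · exact hn6 h1
    · exact hn4 h1
  have hcard' : Nat.card ↥(Lie.twistedD4 F q) =
      (q ^ 12 * (q ^ 2 - 1) * (q ^ 6 - 1) * (q ^ 4 + q ^ 2 + 1)) * (q ^ 4 - q ^ 2 + 1) := by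
    rw [hcard, hfac]
    ring
  obtain ⟨P⟩ : Nonempty (Sylow p S) := inferInstance
  refine hP P ?_
  have hHc' : IsCyclic ↥H := hHc
  refine Cfsg.Agent.LieExceptional.CyclicSylow.isCyclic_sylow_of_hom
    (e.symm.toMonoidHom.comp H.subtype) (e.symm.injective.comp H.subtype_injective) ?_ P
  have hA0 : q ^ 12 * (q ^ 2 - 1) * (q ^ 6 - 1) * (q ^ 4 + q ^ 2 + 1) ≠ 0 := fun h0 => hA (h0 ▸ dvd_zero _)
  have hH0 : q ^ 4 - q ^ 2 + 1 ≠ 0 := by omega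
  rw [hHcard, Nat.card_congr e.toEquiv, hcard', Nat.factorization_mul hA0 hH0, Finsupp.add_apply,
    Nat.factorization_eq_zero_of_not_dvd hA, zero_add]

variable {S : Type u} [Group S] [Finite S] {r : ℕ} [Fact r.Prime] {F : Type} [Field F]
  [Fintype F] [CharP F r] {p : ℕ} [hpp : Fact p.Prime] {M : Ideal AlgInt}

/-- **`p ≤ k(B₀)`** for `³D₄(q)`, Sylow `p`-subgroups not cyclic, `p` not the characteristic. -/
theorem kb_3D4 (hrp : r ≠ p) (h5 : 5 ≤ p) (hM : IsPModular p M) (q : ℕ) (hq : IsPrimePow q)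
    (hF : Fintype.card F = q ^ 3) (e : Nonempty (S ≃* Lie.twistedD4 F q))
    (hP : ∀ P : Sylow p S, ¬ IsCyclic (P : Subgroup S)) : p ≤ kB M S := by
  obtain ⟨e⟩ := e
  have hpq : ¬ p ∣ q := by
    intro h
    obtain ⟨n, -, h2⟩ := FiniteField.card F r
    rw [hF] at h2
    have h3 : p ∣ r ^ (n : ℕ) := by
      rw [← h2]
      exact dvd_pow h (by norm_num)
    exact hrp.symm ((Nat.prime_dvd_prime_iff_eq hpp.out Fact.out).1 (hpp.out.dvd_of_dvd_pow h3))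
  exact le_kB_tw hM h5 hq hF hpq (q_pow_six hq hF hpq e hP) e

/-- **KE8**, from the pieces `Deps`. -/
theorem row_3D4_of [IsSimpleGroup S] (D : H191.KB.Deps.{u} p M) (hrp : r ≠ p) (h11 : 11 ≤ p) (hM : IsPModular p M) (q : ℕ)
    (hq : IsPrimePow q) (hF : Fintype.card F = q ^ 3) (e : Nonempty (S ≃* Lie.twistedD4 F q))
    (hP : ∀ P : Sylow p S, ¬ IsCyclic (P : Subgroup S)) : Row p M S := by
  obtain ⟨e'⟩ := id e
  exact H191.KB.Crit.row_of_ab D (H299.AO.ab_3D4 p S (r := r) hq hF e')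
    (kb_3D4 hrp (by omega) hM q hq hF e hP)

end Cfsg.Agent.H440.TD4
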